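import Cfsg.Agent.Lib.Sporadic.J3Out.Elements
import Cfsg.Prelude.Def_KGroupFacts

/-! J3 has at most two classes of automorphisms modulo inner ones. -/

set_option autoImplicit false

namespace CfsgLib.J3Out

open Cfsg.Spor Matrix CfsgLib.J3 CfsgLib.J3Invol
open scoped Pointwise

variable {F : Type*} [Field F] [Fintype F] {ω : F} (hF : Fintype.card F = 4) (hω : ω ^ 2 + ω + 1 = 0)
include hF hω

/-- the first generator of J3 -/
noncomputable def xJ : J3 F ω := proj (Xg hF hω)

/-- the involution completing the pair, in the cover -/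
noncomputable def Yh : threeJ3 F ω := (exists_Y hF hω).choose

theorem Yh_spec : mx (Yh hF hω) = toM F ω yC ∧ mx (Yh hF hω)⁻¹ = toM F ω yC ∧
    Yh hF hω * Yh hF hω = 1 ∧
    (∀ M ∈ GS F ω, ∃ h ∈ Submonoid.closure ({Xg hF hω, Yh hF hω} : Set (threeJ3 F ω)), mx h = M) ∧
    ∃ n : threeJ3 F ω, n * Xg hF hω * n⁻¹ = Xg hF hω ^ 4 :=
  (exists_Y hF hω).choose_spec

theorem gen_mem (g : threeJ3 F ω) :
    g ∈ Submonoid.closure ({Xg hF hω, Yh hF hω} : Set (threeJ3 F ω)) := by
  obtain ⟨h, hh, he⟩ := (Yh_spec hF hω).2.2.2.1 _ (mx_mem_GS hF hω g)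
  rwa [← mx_injective he]

theorem hom_ext {H : Type*} [Group H] {α β : J3 F ω →* H} (h1 : α (xJ hF hω) = β (xJ hF hω))
    (h2 : α (proj (Yh hF hω)) = β (proj (Yh hF hω))) : α = β := by
  refine MonoidHom.ext fun q => ?_
  obtain ⟨g, rfl⟩ := QuotientGroup.mk'_surjective (Subgroup.center (threeJ3 F ω)) q
  have hg := gen_mem hF hω g
  induction hg using Submonoid.closure_induction with
  | mem z hz => rcases hz with rfl | rfl; exacts [h1, h2]
  | one => simp
  | mul a b _ _ ha hb => rw [map_mul, map_mul, map_mul, ha, hb]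

theorem orbit_conj_X {v : J3 F ω} (hv : InOrbits (F := F) (ω := ω) v) :
    InOrbits (F := F) (ω := ω) (xJ hF hω * v * (xJ hF hω)⁻¹) := by
  have h2 := two_zero hF
  obtain ⟨g, rfl, i, hi, j, hj, hg⟩ := hv
  have hinv : (Xg hF hω)⁻¹ = Xg hF hω ^ 18 := inv_eq_of_mul_eq_one_right (by rw [← pow_succ']; exact Xg_pow hF hω)
  refine ⟨Xg hF hω * g * (Xg hF hω)⁻¹, by rw [map_mul, map_mul, map_inv, xJ], (1 + i) % 19, Nat.mod_lt _ (by norm_num), j, hj, ?_⟩
  rw [mx_mul, mx_mul, hg, hinv, pow_Xg hF hω 18 (by norm_num), ← pow_one (Xg hF hω),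
    pow_Xg hF hω 1 (by norm_num)]
  rw [← pw_mul hF hω 1 i (by norm_num) hi,
    show (19 - (1 + i) % 19) % 19 = ((19 - i) % 19 + 18) % 19 by omega,
    ← pw_mul hF hω _ 18 (Nat.mod_lt _ (by norm_num)) (by norm_num)]
  simp only [Matrix.mul_assoc]

theorem orbit_conj_Y {v : J3 F ω} (hv : InOrbits (F := F) (ω := ω) v) :
    InOrbits (F := F) (ω := ω) (proj (Yh hF hω) * v * (proj (Yh hF hω))⁻¹) := by
  have h2 := two_zero hF
  obtain ⟨g, rfl, i, hi, j, hj, hg⟩ := hv
  obtain ⟨hy, hy', hyy, -, -⟩ := Yh_spec hF hω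
  refine ⟨Yh hF hω * g * (Yh hF hω)⁻¹, by rw [map_mul, map_mul, map_inv], ?_⟩
  have hc := allFrom_spec (closed_at hj) i (Nat.zero_le _) (by omega)
  simp only [Bool.and_eq_true, Nat.blt_eq] at hc
  set a := tgt j i % 19
  set b := tgt j i / 19
  have ha : a < 19 := Nat.mod_lt _ (by norm_num)
  refine ⟨a, ha, b, hc.1, ?_⟩
  have hM : toM F ω (mt a i) = toM F ω (pw ((19 - a) % 19)) * toM F ω yC * toM F ω (pw i) := by
    have h := allFrom_spec runMT (19 * a + i) (Nat.zero_le _) (by omega)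
    simp only [chkMT] at h
    rw [show (19 * a + i) / 19 = a by omega, show (19 * a + i) % 19 = i by omega] at h
    rw [mt, beq_eq h, toM_mul h2 hω, toM_mul h2 hω]
  have hkey : toM F ω (mt a i) * toM F ω (rep j) = toM F ω (rep b) * toM F ω (mt a i) := by
    rw [← toM_mul h2 hω, ← toM_mul h2 hω, beq_eq hc.2]
  rw [hM] at hkey
  have hzero : toM F ω (pw 0) = (1 : Matrix F9 F9 F) := by rw [beq_eq runPw.2.1, toM_one]
  have hyy' : toM F ω yC * toM F ω yC = (1 : Matrix F9 F9 F) := by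
    rw [← toM_mul h2 hω, beq_eq runY.2.1, toM_one]
  have hpa : toM F ω (pw a) * toM F ω (pw ((19 - a) % 19)) = 1 := by
    rw [pw_mul hF hω a _ ha (Nat.mod_lt _ (by norm_num)), show (a + (19 - a) % 19) % 19 = 0 by omega, hzero]
  have hpi : toM F ω (pw i) * toM F ω (pw ((19 - i) % 19)) = 1 := by
    rw [pw_mul hF hω i _ hi (Nat.mod_lt _ (by norm_num)), show (i + (19 - i) % 19) % 19 = 0 by omega, hzero]
  rw [mx_mul, mx_mul, hg, hy, hy']
  calc toM F ω yC * (toM F ω (pw i) * toM F ω (rep j) * toM F ω (pw ((19 - i) % 19))) * toM F ω yC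
      = (toM F ω (pw a) * toM F ω (pw ((19 - a) % 19))) * (toM F ω yC * (toM F ω (pw i) * toM F ω (rep j) *
          toM F ω (pw ((19 - i) % 19))) * toM F ω yC) := by rw [hpa, one_mul]
    _ = toM F ω (pw a) * ((toM F ω (pw ((19 - a) % 19)) * toM F ω yC * toM F ω (pw i)) * toM F ω (rep j)) *
          (toM F ω (pw ((19 - i) % 19)) * toM F ω yC) := by simp only [Matrix.mul_assoc]
    _ = toM F ω (pw a) * toM F ω (rep b) * toM F ω (pw ((19 - a) % 19)) *
          (toM F ω yC * (toM F ω (pw i) * toM F ω (pw ((19 - i) % 19))) * toM F ω yC) := by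
        rw [hkey]; simp only [Matrix.mul_assoc]
    _ = _ := by rw [hpi, mul_one, hyy', mul_one]

theorem involution_inOrbits {v : J3 F ω} (hv : orderOf v = 2) : InOrbits (F := F) (ω := ω) v := by
  obtain ⟨t, ht, -, -⟩ := exists_T hF hω
  have htC : mx t = toM F ω tC := by rw [ht, beq_eq runY.2.2]
  have h0 : InOrbits (F := F) (ω := ω) (proj t) := ⟨t, rfl, 0, by norm_num, 0, by norm_num, by
    rw [ht, show (19 - 0) % 19 = 0 from rfl, beq_eq runPw.2.1, toM_one, one_mul, mul_one]⟩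
  obtain ⟨g, rfl⟩ := isConj_iff.1 (involutions_conj hF hω htC hv)
  obtain ⟨g, rfl⟩ := QuotientGroup.mk'_surjective (Subgroup.center (threeJ3 F ω)) g
  have hg := gen_mem hF hω g
  clear hv
  suffices ∀ w, InOrbits (F := F) (ω := ω) w → InOrbits (F := F) (ω := ω) (proj g * w * (proj g)⁻¹) from
    this _ h0
  induction hg using Submonoid.closure_induction with
  | mem z hz => rcases hz with rfl | rfl; exacts [fun w => orbit_conj_X hF hω, fun w => orbit_conj_Y hF hω]
  | one => intro w hw; simpa using hw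
  | mul a b _ _ ha hb =>
    intro w hw
    rw [map_mul, show proj a * proj b * w * (proj a * proj b)⁻¹ =
      proj a * (proj b * w * (proj b)⁻¹) * (proj a)⁻¹ by group]
    exact ha _ (hb w hw)

theorem scal_of_proj {a : M2} {g : threeJ3 F ω} (hg : mx g = toM F ω a) (h : proj g = 1) :
    notScal a = false := by
  by_contra hne
  rw [Bool.not_eq_false] at hne
  simp only [notScal, Bool.and_eq_true, Bool.not_eq_true'] at hne
  obtain ⟨⟨⟨hok, h0⟩, h1⟩, h2⟩ := hne
  obtain ⟨z, hz, he⟩ := center_codes hF hω (proj_eq_one.1 h)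
  have e := toM_injective (two_zero hF) hω hok (allFrom_spec nodupZ.2 z (Nat.zero_le _) (by omega)) (hg.symm.trans he)
  subst e
  interval_cases z
  · exact Bool.noConfusion (h0.symm.trans (show beq (cd zC 0) one = true by decide +kernel))
  · exact Bool.noConfusion (h1.symm.trans (show beq (cd zC 1) omCode = true by decide +kernel))
  · exact Bool.noConfusion (h2.symm.trans (show beq (cd zC 2) (mul omCode omCode) = true by decide +kernel))

theorem proj_of_scal {a : M2} {g : threeJ3 F ω} (hg : mx g = toM F ω a)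
    (h : (beq a one || beq a omCode || beq a (mul omCode omCode)) = true) : proj g = 1 := by
  obtain ⟨z, hz, hz'⟩ : ∃ z < 3, a = cd zC z := by
    simp only [Bool.or_eq_true] at h
    rcases h with (h | h) | h
    exacts [⟨0, by norm_num, beq_eq h⟩, ⟨1, by norm_num, beq_eq h⟩, ⟨2, by norm_num, beq_eq h⟩]
  obtain ⟨c, hc, hcc⟩ := zC_spec hF hω z hz
  obtain rfl : g = c := mx_injective (by rw [hg, hc, hz'])
  exact proj_eq_one.2 hcc

theorem mx_p3 {g : threeJ3 F ω} {a : M2} (hg : mx g = toM F ω a) : mx (g ^ 3) = toM F ω (p3 a) := by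
  rw [show g ^ 3 = g * (g * g) by simp only [pow_succ, pow_zero, one_mul, mul_assoc], p3, mx_mul, mx_mul, toM_mul (two_zero hF) hω, toM_mul (two_zero hF) hω, hg]

theorem mx_p17 {g : threeJ3 F ω} {a : M2} (hg : mx g = toM F ω a) : mx (g ^ 17) = toM F ω (p17 a) := by
  rw [show g ^ 17 = g * (((g * g) * (g * g)) * ((g * g) * (g * g)) * (((g * g) * (g * g)) * ((g * g) * (g * g)))) by simp only [pow_succ, pow_zero, one_mul, mul_assoc],
    p17]
  simp only [mx_mul, toM_mul (two_zero hF) hω, hg]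

theorem xJ_pow : xJ hF hω ^ 19 = 1 := by rw [xJ, ← map_pow, Xg_pow, map_one]

theorem rels : (xJ hF hω * proj (Yh hF hω)) ^ 3 = 1 ∧ (xJ hF hω ^ 3 * proj (Yh hF hω)) ^ 17 = 1 := by
  have h2 := two_zero hF
  have hy := (Yh_spec hF hω).1
  have key : ∀ k, k < 19 → mx (Xg hF hω ^ k * Yh hF hω) = toM F ω (mul (pw k) yC) := fun k hk => by
    rw [mx_mul, pow_Xg hF hω k hk, hy, toM_mul h2 hω]
  constructor
  · rw [← pow_one (xJ hF hω), xJ, ← map_pow, ← map_mul, ← map_pow]
    exact proj_of_scal hF hω (mx_p3 hF hω (key 1 (by norm_num))) runRels.1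
  · rw [xJ, ← map_pow, ← map_mul, ← map_pow]
    exact proj_of_scal hF hω (mx_p17 hF hω (key 3 (by norm_num))) runRels.2

theorem aut_normal (α : MulAut (J3 F ω)) :
    ∃ β : MulAut (J3 F ω), β * α⁻¹ ∈ Cfsg.Inn (J3 F ω) ∧ ∃ k j : ℕ, good k j = true ∧
      β (xJ hF hω) = xJ hF hω ^ k ∧ ∃ g : threeJ3 F ω, mx g = toM F ω (rep j) ∧ β (proj (Yh hF hω)) = proj g := by
  classical
  have h2 := two_zero hF
  haveI : Fact (Nat.Prime 19) := ⟨by norm_num⟩
  haveI : Fact (Nat.Prime 2) := ⟨Nat.prime_two⟩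
  set x := xJ hF hω with hxdef
  have hxne : x ≠ 1 := fun e => by
    have := center_eq_one hF hω (proj_eq_one.1 e) (Xg_pow hF hω) (by norm_num)
    have e' := congrArg mx this
    rw [mx_Xg, show mx (1 : threeJ3 F ω) = 1 from rfl, ← toM_one (F := F) (ω := ω)] at e'
    have h1 := toM_injective h2 hω (show okb gX = true by decide +kernel) (by decide +kernel) e'
    have hf : beq gX one = false := by decide +kernel
    rw [h1] at hf
    exact Bool.noConfusion (hf.symm.trans (by decide +kernel : beq one one = true))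
  have hxo : orderOf x = 19 := orderOf_eq_prime (xJ_pow hF hω) hxne
  have hfac : (Nat.card (J3 F ω)).factorization 19 = 1 := by
    have hdvd : 19 ∣ Nat.card (J3 F ω) := hxo ▸ orderOf_dvd_natCard x
    have hne : Nat.card (J3 F ω) ≠ 0 := Nat.card_pos.ne'
    have h1 := (Nat.Prime.dvd_iff_one_le_factorization (by norm_num) hne).1 hdvd
    have h2' : ¬ 19 ^ 2 ∣ Nat.card (J3 F ω) := fun h => by
      have h' : 19 ^ 2 ∣ Nat.card (threeJ3 F ω) :=
        h.trans ⟨_, Subgroup.card_eq_card_quotient_mul_card_subgroup (Subgroup.center (threeJ3 F ω))⟩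
      rw [card_threeJ3 h2 hω] at h'
      norm_num at h'
    have h3 : ¬ 2 ≤ (Nat.card (J3 F ω)).factorization 19 := fun h =>
      h2' ((Nat.Prime.pow_dvd_iff_le_factorization (by norm_num) hne).2 h)
    omega
  let P : Sylow 19 (J3 F ω) := Sylow.ofCard (Subgroup.zpowers x) (by rw [Nat.card_zpowers, hxo, hfac, pow_one])
  have hαx : orderOf (α x) = 19 := by rw [← hxo]; exact orderOf_injective α.toMonoidHom α.injective x
  obtain ⟨R, hR⟩ := IsPGroup.exists_le_sylow (IsPGroup.of_card (G := Subgroup.zpowers (α x)) (p := 19) (n := 1)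
    (by rw [Nat.card_zpowers, hαx, pow_one]))
  obtain ⟨g, hg⟩ := MulAction.exists_smul_eq (J3 F ω) R P
  have hmem : g * α x * g⁻¹ ∈ Subgroup.zpowers x := by
    have h : MulAut.conj g • α x ∈ MulAut.conj g • (R : Subgroup (J3 F ω)) :=
      Subgroup.smul_mem_pointwise_smul _ _ _ (hR (Subgroup.mem_zpowers _))
    rw [show MulAut.conj g • (R : Subgroup (J3 F ω)) = ((g • R : Sylow 19 (J3 F ω)) : Subgroup (J3 F ω)) from rfl, hg] at h
    simpa [P, Sylow.ofCard] using h
  obtain ⟨e, he⟩ : ∃ e : Fin 19, x ^ e.val = g * α x * g⁻¹ := by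
    obtain ⟨n, hn⟩ := (Submonoid.mem_powers_iff _ _).1 ((mem_powers_iff_mem_zpowers).2 hmem)
    refine ⟨⟨n % 19, Nat.mod_lt _ (by norm_num)⟩, ?_⟩
    have h := pow_mod_orderOf x n
    rw [hxo] at h
    exact h.trans hn
  have he0 : e.val ≠ 0 := fun h0 => by
    rw [h0, pow_zero] at he
    have : α x = 1 := conj_eq_one_iff.1 he.symm
    rw [this, orderOf_one] at hαx
    norm_num at hαx
  obtain ⟨i, k, hk0, hek⟩ := runExp e he0
  obtain ⟨nh, hnh⟩ := (Yh_spec hF hω).2.2.2.2
  set n : J3 F ω := proj nh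
  have hn1 : n * x * n⁻¹ = x ^ 4 := by
    rw [hxdef, xJ, ← map_inv, ← map_mul, ← map_mul, hnh, map_pow]
  have hnpow : ∀ a : ℕ, n ^ a * x * (n ^ a)⁻¹ = x ^ 4 ^ a := by
    intro a
    induction a with
    | zero => simp
    | succ a ih =>
      rw [pow_succ', show n * n ^ a * x * (n * n ^ a)⁻¹ = n * (n ^ a * x * (n ^ a)⁻¹) * n⁻¹ by group, ih,
        ← conj_pow, hn1, ← pow_mul, pow_succ 4 a, mul_comm (4 ^ a) 4]
  set c := (n ^ (i : ℕ))⁻¹ * g
  have hbx : MulAut.conj c (α x) = x ^ k.val := by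
    have h1 : x ^ e.val = (x ^ 4 ^ (i : ℕ)) ^ k.val := by
      rw [← pow_mul, ← pow_mod_orderOf x (4 ^ (i : ℕ) * k.val), hxo, ← hek]
    rw [← hnpow, conj_pow] at h1
    rw [MulAut.conj_apply, show c * α x * c⁻¹ = (n ^ (i : ℕ))⁻¹ * (g * α x * g⁻¹) * n ^ (i : ℕ) by
      simp only [c]; group, ← he, h1]
    group
  have hyo : orderOf (proj (Yh hF hω)) = 2 := orderOf_eq_prime
    (by rw [pow_two, ← map_mul, (Yh_spec hF hω).2.2.1, map_one])
    (fun e => by
      have h19 := (rels hF hω).1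
      rw [e, mul_one] at h19
      have := orderOf_dvd_of_pow_eq_one h19
      rw [hxo] at this
      norm_num at this)
  have hwo : orderOf (MulAut.conj c (α (proj (Yh hF hω)))) = 2 := by
    rw [show MulAut.conj c (α (proj (Yh hF hω))) = (MulAut.conj c * α) (proj (Yh hF hω)) from rfl]
    exact (orderOf_injective (MulAut.conj c * α).toMonoidHom (MulAut.conj c * α).injective _).trans hyo
  obtain ⟨w, hw, a, ha, j, hj, hwm⟩ := involution_inOrbits hF hω hwo
  set Xa : threeJ3 F ω := Xg hF hω ^ a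
  set d : J3 F ω := (x ^ a)⁻¹
  have hbx' : (MulAut.conj d * MulAut.conj c * α) x = x ^ k.val := by
    show MulAut.conj d (MulAut.conj c (α x)) = _
    rw [hbx, MulAut.conj_apply]
    simp only [d]
    group
  obtain ⟨v, hv, hvm⟩ : ∃ v : threeJ3 F ω, mx v = toM F ω (rep j) ∧
      proj v = (MulAut.conj d * MulAut.conj c * α) (proj (Yh hF hω)) := by
    refine ⟨Xa⁻¹ * w * Xa, ?_, ?_⟩
    · have hi : Xa⁻¹ = Xg hF hω ^ ((19 - a) % 19) := inv_eq_of_mul_eq_one_right (by
        rw [← pow_add, pw_mul.pow_mod_of_pow_eq_one (Xg_pow hF hω), show (a + (19 - a) % 19) % 19 = 0 by omega, pow_zero])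
      rw [mx_mul, mx_mul, hi, pow_Xg hF hω _ (Nat.mod_lt _ (by norm_num)), pow_Xg hF hω a ha, hwm]
      have hzero : toM F ω (pw 0) = (1 : Matrix F9 F9 F) := by rw [beq_eq runPw.2.1, toM_one]
      calc _ = (toM F ω (pw ((19 - a) % 19)) * toM F ω (pw a)) * toM F ω (rep j) *
            (toM F ω (pw ((19 - a) % 19)) * toM F ω (pw a)) := by simp only [Matrix.mul_assoc]
        _ = _ := by
          rw [pw_mul hF hω _ a (Nat.mod_lt _ (by norm_num)) ha, show ((19 - a) % 19 + a) % 19 = 0 by omega,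
            hzero, one_mul, mul_one]
    · show _ = MulAut.conj d (MulAut.conj c (α (proj (Yh hF hω))))
      rw [← hw, MulAut.conj_apply, map_mul, map_mul, map_inv]
      simp only [d, inv_inv, x, xJ, Xa, map_pow]
  have hr := rels hF hω
  have hr1 := congrArg (MulAut.conj d * MulAut.conj c * α) hr.1
  have hr2 := congrArg (MulAut.conj d * MulAut.conj c * α) hr.2
  rw [map_pow, map_mul, hbx', ← hvm, map_one, hxdef, xJ, ← map_pow, ← map_mul, ← map_pow] at hr1
  rw [map_pow, map_mul, map_pow, hbx', ← hvm, map_one, hxdef, xJ, ← map_pow, ← map_pow, ← pow_mul,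
    ← map_mul, ← map_pow] at hr2
  have hk3 : k.val < 3 := k.2
  have s1 := scal_of_proj hF hω (mx_p3 hF hω (a := mul (pw k.val) (rep j)) (by
    rw [mx_mul, pow_Xg hF hω _ (by omega), hv, toM_mul h2 hω])) hr1
  have hm17 : mx ((Xg hF hω ^ (k.val * 3) * v) ^ 17) = toM F ω (p17 (mul (pw (3 * k.val)) (rep j))) :=
    mx_p17 hF hω (by rw [mx_mul, mul_comm 3 k.val, pow_Xg hF hω _ (by omega), hv, toM_mul h2 hω])
  have s2 := scal_of_proj hF hω hm17 hr2
  have hp : chkPair k.val j = true := by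
    rcases (show k.val = 1 ∨ k.val = 2 by omega) with e1 | e1 <;> rw [e1]
    · exact allFrom_spec runPair1 j (Nat.zero_le _) (by omega)
    · exact allFrom_spec runPair2 j (Nat.zero_le _) (by omega)
  refine ⟨MulAut.conj d * MulAut.conj c * α, ⟨d * c, by rw [map_mul]; group⟩, k.val, j, ?_, hbx', v, hv, hvm.symm⟩
  simpa [chkPair, s1, s2] using hp

theorem card_out_le : Nat.card (Cfsg.Out (J3 F ω)) ≤ 2 := by
  classical
  have h := fun q : Cfsg.Out (J3 F ω) => aut_normal hF hω q.out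
  choose β hβ k j hgood hbx g hg hby using h
  have hq : ∀ q, QuotientGroup.mk (β q) = q := fun q => by
    conv_rhs => rw [← q.out_eq]
    show QuotientGroup.mk (β q) = QuotientGroup.mk q.out
    rw [QuotientGroup.eq]
    have h1 := inv_mem (hβ q)
    have h2 := (Cfsg.innNormal (J3 F ω)).conj_mem _ h1 ((β q)⁻¹)
    simpa [mul_assoc] using h2
  refine (Nat.card_le_card_of_injective (fun q => decide (k q = 1)) fun q q' e => ?_).trans
    (le_of_eq (Nat.card_eq_fintype_card.trans Fintype.card_bool))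
  have e2 : decide (k q = 1) = decide (k q' = 1) := e
  have hboth : k q = k q' ∧ j q = j q' := by
    have h1 := hgood q
    have h2 := hgood q'
    simp only [good, Bool.or_eq_true, Bool.and_eq_true, Nat.beq_eq] at h1 h2
    rcases h1 with ⟨a1, b1⟩ | ⟨a1, b1⟩ <;> rcases h2 with ⟨a2, b2⟩ | ⟨a2, b2⟩ <;>
      simp_all
  have hgg : g q = g q' := mx_injective (by rw [hg, hg, hboth.2])
  have : β q = β q' := MulEquiv.toMonoidHom_injective (hom_ext hF hω
    (show β q _ = β q' _ by rw [hbx, hbx, hboth.1]) (show β q _ = β q' _ by rw [hby, hby, hgg]))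
  rw [← hq q, ← hq q', this]

end CfsgLib.J3Out
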