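import Cfsg.Agent.Lib.Sporadic.J3.Gens
import Cfsg.Agent.Lib.Sporadic.J3.Checks
import Cfsg.Agent.Lib.Sporadic.J3Out.Data

/-! The checks of the certificate for the automorphisms of J3. -/

set_option autoImplicit false

namespace CfsgLib.J3Out

open CfsgLib.J3

/-- a power of the first generator -/
def pw (i : ℕ) : M2 := pwL.getD i one

/-- a representative of an orbit on involutions -/
def rep (j : ℕ) : M2 := repT.get j

/-- the transfer matrix of two exponents -/
def mt (a i : ℕ) : M2 := mT.get (19 * a + i)

/-- the image position of an involution -/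
def tgt (j i : ℕ) : ℕ := (tgtT.get j >>> (16 * i)) &&& 65535

/-- no scalar -/
def notScal (a : M2) : Bool :=
  okb a && !(beq a one) && !(beq a omCode) && !(beq a (mul omCode omCode))

/-- third power -/
def p3 (a : M2) : M2 := mul a (mul a a)

/-- seventeenth power -/
def p17 (a : M2) : M2 :=
  let b := mul a a
  let c := mul b b
  let d := mul c c
  mul a (mul d d)

/-- the conjugate by `y` of an involution of an orbit stays among the orbits -/
noncomputable def chkClosed (j : ℕ) : Bool :=
  allFrom 0 19 fun i => Nat.blt (tgt j i / 19) 1377 &&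
    beq (mul (mt (tgt j i % 19) i) (rep j)) (mul (rep (tgt j i / 19)) (mt (tgt j i % 19) i))

/-- the definition of the transfer matrices -/
def chkMT (t : ℕ) : Bool := beq (mT.get t) (mul (mul (pw ((19 - t / 19) % 19)) yC) (pw (t % 19)))

/-- one of the two surviving pairs -/
def good (k j : ℕ) : Bool := (Nat.beq k 1 && Nat.beq j yPos) || (Nat.beq k 2 && Nat.beq j 648)

/-- every other pair violates a relation -/
def chkPair (k j : ℕ) : Bool :=
  good k j || notScal (p3 (mul (pw k) (rep j))) || notScal (p17 (mul (pw (3 * k)) (rep j)))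

/-- the field automorphism on a code -/
def galois (a : M2) : M2 := ⟨a.p0 ^^^ a.p1, a.p1⟩

/-- the outer automorphism on a code -/
def phiC (a : M2) : M2 := mul pC (mul (galois a) pC)

/-- position of the conjugate of an index -/
def cj (k : ℕ) : ℕ := 3 * (k / 3) + (3 - k % 3) % 3

/-- position of the image of a generator -/
def gTo (n : ℕ) : ℕ :=
  if n < 9 then [0, 1, 2, 6, 7, 8, 3, 4, 5].getD n 0
  else if n < 27 then 9 * (n / 9) + cj (n % 9)
  else if n < 35 then 27 + (cj (n - 27 + 1) - 1) else 35 + (cj (n - 35 + 1) - 1)

/-- the image of a generator is a generator or a square of one -/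
def chkPhi (n : ℕ) : Bool :=
  Nat.blt (gTo n) 43 && (beq (phiC (genL.getD n one)) (genL.getD (gTo n) one) ||
    beq (phiC (genL.getD n one)) (mul (genL.getD (gTo n) one) (genL.getD (gTo n) one)))

end CfsgLib.J3Out
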