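import Cfsg.Agent.Lib.Sporadic.J3Out.Defs

/-! Kernel evaluation of the closure check, block 1. -/

set_option autoImplicit false
set_option maxRecDepth 100000

namespace CfsgLib.J3Out

open CfsgLib.J3

theorem runClosed1 : allFrom 360 360 chkClosed = true := by decide +kernel

end CfsgLib.J3Out
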