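import Cfsg.Agent.Lib.Sporadic.J3Out.Misc
import Cfsg.Agent.Lib.Sporadic.J3Out.Run0
import Cfsg.Agent.Lib.Sporadic.J3Out.Run1
import Cfsg.Agent.Lib.Sporadic.J3Out.Run2
import Cfsg.Agent.Lib.Sporadic.J3Out.Run3
import Cfsg.Agent.Lib.Sporadic.J3Invol.Main

/-! The generating pair of J3 and the orbits of the first generator on the involutions. -/

set_option autoImplicit false

namespace CfsgLib.J3Out

open Cfsg.Spor Matrix CfsgLib.J3 CfsgLib.J3Invol

variable {F : Type*} [Field F] [Fintype F] {ω : F} (hF : Fintype.card F = 4) (hω : ω ^ 2 + ω + 1 = 0)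

theorem pw_succ {i : ℕ} (hi : i < 18) : pw (i + 1) = mul gX (pw i) :=
  beq_eq (allFrom_spec runPw.1 i (Nat.zero_le _) (by omega))

theorem closed_at {j : ℕ} (hj : j < 1377) : chkClosed j = true := by
  rcases Nat.lt_or_ge j 360 with h | h
  · exact allFrom_spec runClosed0 j (Nat.zero_le _) (by omega)
  rcases Nat.lt_or_ge j 720 with h' | h'
  · exact allFrom_spec runClosed1 j h (by omega)
  rcases Nat.lt_or_ge j 1080 with h'' | h''
  · exact allFrom_spec runClosed2 j h' (by omega)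
  · exact allFrom_spec runClosed3 j h'' (by omega)

include hF hω

theorem exists_X : ∃ g : threeJ3 F ω, mx g = toM F ω gX :=
  exists_el hF hω (gX_mem (F := F) (ω := ω) (two_zero hF) hω)

/-- the first generator in the cover -/
noncomputable def Xg : threeJ3 F ω := (exists_X hF hω).choose

theorem mx_Xg : mx (Xg hF hω) = toM F ω gX := (exists_X hF hω).choose_spec

theorem pow_Xg : ∀ i, i < 19 → mx (Xg hF hω ^ i) = toM F ω (pw i) := by
  intro i
  induction i with
  | zero => intro _; rw [pow_zero, beq_eq runPw.2.1, toM_one]; rfl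
  | succ i ih =>
    intro hi
    rw [pow_succ', mx_mul, ih (by omega), mx_Xg, pw_succ (by omega), toM_mul (two_zero hF) hω]

theorem Xg_pow : Xg hF hω ^ 19 = 1 := mx_injective (by
  rw [show 19 = 18 + 1 from rfl, pow_succ', mx_mul, pow_Xg hF hω 18 (by norm_num), mx_Xg,
    ← toM_mul (two_zero hF) hω, beq_eq runPw.2.2, toM_one]
  rfl)

theorem exists_T : ∃ t : threeJ3 F ω, mx t = toM F ω (rep 0) ∧ t ^ 2 = 1 ∧ t ≠ 1 := by
  obtain ⟨lq, -, -, -, -, -, htq, htq0⟩ := lengths
  obtain ⟨fq, SQ, hfq, hfq0, hqinj, -, -, -, -⟩ := exists_table hF hω runQ nodupQ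
  refine ⟨fq tq, by rw [beq_eq runY.2.2]; exact hfq tq (by omega), ?_, fun e =>
    htq0 (hqinj tq (by omega) 0 (by omega) (e.trans hfq0.symm))⟩
  have h := allFrom_spec runQM tq (Nat.zero_le _) (by omega)
  have h' := allFrom_spec h tq (Nat.zero_le _) (by omega)
  simp only [Bool.and_eq_true, Nat.blt_eq] at h'
  rw [pow_two, eq_of_beq hF hω (hfq tq (by omega)) (hfq tq (by omega)) (hfq _ (by omega)) h'.2,
    tq_sq, hfq0]

/-- an involution of an orbit -/
def InOrbits (v : J3 F ω) : Prop :=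
  ∃ g : threeJ3 F ω, proj g = v ∧ ∃ i < 19, ∃ j < 1377,
    mx g = toM F ω (pw i) * toM F ω (rep j) * toM F ω (pw ((19 - i) % 19))

theorem pw_mul (a b : ℕ) (ha : a < 19) (hb : b < 19) :
    toM F ω (pw a) * toM F ω (pw b) = toM F ω (pw ((a + b) % 19)) := by
  rw [← pow_Xg hF hω a ha, ← pow_Xg hF hω b hb, ← pow_Xg hF hω _ (Nat.mod_lt _ (by norm_num)),
    ← mx_mul, ← pow_add, ← pow_mod_of_pow_eq_one (Xg_pow hF hω) (a + b)]
where
  pow_mod_of_pow_eq_one {g : threeJ3 F ω} (h : g ^ 19 = 1) (n : ℕ) : g ^ n = g ^ (n % 19) := by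
    conv_lhs => rw [← Nat.div_add_mod n 19, pow_add, pow_mul, h, one_pow, one_mul]

theorem yC_mem : toM F ω yC ∈ GS F ω := by
  rw [beq_eq runY1.1]
  have h := runY1.2
  revert h
  generalize wordY1 = l
  induction l with
  | nil => intro _; rw [show gprod [] = one from rfl, toM_one]; exact one_mem _
  | cons a l ih =>
    intro hl
    rw [List.all_cons, Bool.and_eq_true, Nat.blt_eq] at hl
    rw [show gprod (a :: l) = mul (mul (pw a) gY) (gprod l) from rfl, toM_mul (two_zero hF) hω,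
      toM_mul (two_zero hF) hω, ← pow_Xg hF hω a hl.1]
    exact mul_mem (mul_mem (mx_mem_GS hF hω _) (gY_mem (two_zero hF) hω)) (ih hl.2)

theorem exists_Y : ∃ g : threeJ3 F ω, mx g = toM F ω yC ∧ mx g⁻¹ = toM F ω yC ∧
    g * g = 1 ∧
    (∀ M ∈ GS F ω, ∃ h ∈ Submonoid.closure ({Xg hF hω, g} : Set (threeJ3 F ω)), mx h = M) ∧
    ∃ n : threeJ3 F ω, n * Xg hF hω * n⁻¹ = Xg hF hω ^ 4 := by
  have h2 := two_zero hF
  suffices hy : ∃ g : threeJ3 F ω, mx g = toM F ω yC by
    obtain ⟨g, hg⟩ := hy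
    have hgg : g * g = 1 := mx_injective (by
      rw [mx_mul, hg, ← toM_mul h2 hω, beq_eq runY.2.1, toM_one]; rfl)
    have hginv : g⁻¹ = g := inv_eq_of_mul_eq_one_right hgg
    have hword : ∀ l : List ℕ, l.all (fun a => Nat.blt a 19) = true →
        ∃ h ∈ Submonoid.closure ({Xg hF hω, g} : Set (threeJ3 F ω)), mx h = toM F ω (wprod l) := by
      intro l
      induction l with
      | nil => exact fun _ => ⟨1, one_mem _, by rw [show wprod [] = one from rfl, toM_one]; rfl⟩
      | cons a l ih =>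
        intro hl
        rw [List.all_cons, Bool.and_eq_true, Nat.blt_eq] at hl
        obtain ⟨h, hh, he⟩ := ih hl.2
        refine ⟨Xg hF hω ^ a * g * h, mul_mem (mul_mem (pow_mem (Submonoid.subset_closure (show Xg hF hω ∈ ({Xg hF hω, g} : Set (threeJ3 F ω)) from Or.inl rfl)) _)
          (Submonoid.subset_closure (show g ∈ ({Xg hF hω, g} : Set (threeJ3 F ω)) from Or.inr rfl))) hh, ?_⟩
        rw [mx_mul, mx_mul, pow_Xg hF hω a hl.1, hg, he,
          show wprod (a :: l) = mul (mul (pw a) yC) (wprod l) from rfl, toM_mul h2 hω, toM_mul h2 hω]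
    obtain ⟨e1, e2, w1, w2, e3⟩ := runWords
    refine ⟨g, hg, by rw [hginv, hg], hgg, fun M hM => ?_, ?_⟩
    · induction hM using Submonoid.closure_induction with
      | mem x hx =>
        rcases hx with rfl | rfl
        · exact ⟨_, Submonoid.subset_closure (Or.inl rfl), mx_Xg hF hω⟩
        · obtain ⟨h, hh, he⟩ := hword _ w1
          exact ⟨h, hh, by rw [he, ← beq_eq e1]⟩
      | one => exact ⟨1, one_mem _, rfl⟩
      | mul a b _ _ ha hb =>
        obtain ⟨h, hh, he⟩ := ha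
        obtain ⟨k, hk, he'⟩ := hb
        exact ⟨h * k, mul_mem hh hk, by rw [mx_mul, he, he']⟩
    · obtain ⟨n, -, hn⟩ := hword _ w2
      rw [← beq_eq e2] at hn
      refine ⟨n, mul_inv_eq_iff_eq_mul.2 (mx_injective ?_)⟩
      rw [mx_mul, mx_mul, hn, mx_Xg, pow_Xg hF hω 4 (by norm_num), ← toM_mul h2 hω, ← toM_mul h2 hω, beq_eq e3]
  exact exists_el hF hω (yC_mem hF hω)
end CfsgLib.J3Out
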