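import Cfsg.Agent.Lib.Sporadic.J3Out.Defs
import Cfsg.Agent.Lib.Sporadic.J3Invol.Checks

/-! Kernel evaluation of the small checks. -/

set_option autoImplicit false
set_option maxRecDepth 100000

namespace CfsgLib.J3Out

open CfsgLib.J3

/-- product of a word -/
def wprod (l : List ℕ) : M2 := lprod (l.map fun a => mul (pw a) yC)

/-- product of a word in the two coded generators -/
def gprod (l : List ℕ) : M2 := lprod (l.map fun a => mul (pw a) gY)

/-- the completing involution as a word -/
def wordY1 : List ℕ := [10, 16, 4, 10, 4, 0, 14]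

theorem runY1 : beq yC (gprod wordY1) = true ∧ wordY1.all (fun a => Nat.blt a 19) = true := by decide +kernel

theorem runPw : allFrom 0 18 (fun i => beq (pw (i + 1)) (mul gX (pw i))) = true ∧
    beq (pw 0) one = true ∧ beq (mul gX (pw 18)) one = true := by decide +kernel

theorem runY : beq yC (rep yPos) = true ∧ beq (mul yC yC) one = true ∧
    beq (rep 0) (CfsgLib.J3Invol.tC) = true := by decide +kernel

theorem runWords : beq gY (wprod wordGY) = true ∧ beq nC (wprod wordN) = true ∧
    wordGY.all (fun a => Nat.blt a 19) = true ∧ wordN.all (fun a => Nat.blt a 19) = true ∧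
    beq (mul nC gX) (mul (pw 4) nC) = true := by decide +kernel

theorem runGoods : notScal (p3 (mul (pw 1) yC)) = false ∧ notScal (p17 (mul (pw 3) yC)) = false := by
  decide +kernel

theorem runRels : (beq (p3 (mul (pw 1) yC)) one || beq (p3 (mul (pw 1) yC)) omCode ||
    beq (p3 (mul (pw 1) yC)) (mul omCode omCode)) = true ∧
    (beq (p17 (mul (pw 3) yC)) one || beq (p17 (mul (pw 3) yC)) omCode ||
    beq (p17 (mul (pw 3) yC)) (mul omCode omCode)) = true := by decide +kernel

theorem runPhi : allFrom 0 43 chkPhi = true ∧ beq (mul pC pC) one = true := by decide +kernel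


theorem runExp : ∀ e : Fin 19, e.val ≠ 0 → ∃ i : Fin 9, ∃ k : Fin 3, k.val ≠ 0 ∧ e.val = 4 ^ i.val * k.val % 19 := by
  decide +kernel

theorem runMT : allFrom 0 361 chkMT = true := by decide +kernel

theorem runPair1 : allFrom 0 1377 (chkPair 1) = true := by decide +kernel

theorem runPair2 : allFrom 0 1377 (chkPair 2) = true := by decide +kernel

end CfsgLib.J3Out
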