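import Cfsg.Agent.Lib.Sporadic.J3Out.Bound

/-!
The outer automorphism of J3: the field automorphism followed by the permutation of the basis by the
conjugation of the index field.
-/

set_option autoImplicit false

namespace CfsgLib.J3Out

open Cfsg.Spor Matrix CfsgLib.J3 CfsgLib.J3Invol

variable {F : Type*} [Field F] [Fintype F] {ω : F} (hF : Fintype.card F = 4) (hω : ω ^ 2 + ω + 1 = 0)
include hF hω

/-- squaring -/
def sq : F →+* F where
  toFun x := x ^ 2
  map_one' := one_pow 2
  map_mul' a b := mul_pow a b 2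
  map_zero' := zero_pow two_ne_zero
  map_add' a b := by linear_combination a * b * two_zero hF

theorem sq_omega : sq hF ω = 1 + ω := omega_sq (two_zero hF) hω

theorem sq_el (x : Bool × Bool) : sq hF (el F ω x) = el F ω (xor x.1 x.2, x.2) := by
  have h := omega_sq (two_zero hF) hω
  have h1 := two_zero hF
  obtain ⟨x1, x2⟩ := x
  cases x1 <;> cases x2 <;> simp [el, map_add, sq_omega hF hω] <;>
    first | linear_combination h1 | linear_combination (1 + ω) * h1 | linear_combination ω * h1 | linear_combination -h1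

theorem toM_galois (a : M2) : (toM F ω a).map (sq hF) = toM F ω (galois a) := by
  ext r c
  rw [Matrix.map_apply, toM, toM, Matrix.of_apply, Matrix.of_apply, sq_el hF hω]
  simp [bits, galois]

/-- the permutation matrix as a unit -/
def pU : GL F9 F :=
  ⟨toM F ω pC, toM F ω pC, by rw [← toM_mul (two_zero hF) hω, beq_eq runPhi.2, toM_one],
    by rw [← toM_mul (two_zero hF) hω, beq_eq runPhi.2, toM_one]⟩

/-- the automorphism of the general linear group -/
noncomputable def phiGL : GL F9 F →* GL F9 F :=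
  (MulAut.conj (pU hF hω)).toMonoidHom.comp (Units.map (sq hF).mapMatrix.toMonoidHom)

theorem phiGL_coe (g : GL F9 F) : (phiGL hF hω g : Matrix F9 F9 F) =
    toM F ω pC * ((g : Matrix F9 F9 F).map (sq hF) * toM F ω pC) := by
  rw [← Matrix.mul_assoc]
  rfl

theorem phiGL_code {g : GL F9 F} {a : M2} (h : (g : Matrix F9 F9 F) = toM F ω a) :
    (phiGL hF hω g : Matrix F9 F9 F) = toM F ω (phiC a) := by
  rw [phiGL_coe, h, toM_galois hF hω, phiC, toM_mul (two_zero hF) hω, toM_mul (two_zero hF) hω]

theorem phiGL_mem {g : GL F9 F} (hg : g ∈ threeJ3 F ω) : phiGL hF hω g ∈ threeJ3 F ω := by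
  suffices threeJ3 F ω ≤ (threeJ3 F ω).comap (phiGL hF hω) from this hg
  refine (Subgroup.closure_le _).2 fun x hx => ?_
  obtain ⟨n, hn, he⟩ := exists_code (two_zero hF) hω hx
  show phiGL hF hω x ∈ threeJ3 F ω
  have h := allFrom_spec runPhi.1 n (Nat.zero_le _) (by omega)
  simp only [chkPhi, Bool.and_eq_true, Bool.or_eq_true, Nat.blt_eq] at h
  obtain ⟨hm, h⟩ := h
  obtain ⟨u, hu, hue⟩ := (mem_GS_iff_exists (two_zero hF) hω).1 (gen_mem_GS (two_zero hF) hω hm)
  rcases h with h | h
  · rw [show phiGL hF hω x = u from Units.ext (by rw [phiGL_code hF hω he, beq_eq h, hue])]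
    exact hu
  · rw [show phiGL hF hω x = u * u from Units.ext (by
      rw [phiGL_code hF hω he, beq_eq h, toM_mul (two_zero hF) hω, Units.val_mul, hue])]
    exact mul_mem hu hu

/-- the automorphism of the triple cover -/
noncomputable def phiT : MulAut (threeJ3 F ω) :=
  MulEquiv.ofBijective (((phiGL hF hω).comp (threeJ3 F ω).subtype).codRestrict (threeJ3 F ω)
    fun g => phiGL_mem hF hω g.2) (Finite.injective_iff_bijective.1 fun a b h => by
      have h' : phiGL hF hω a = phiGL hF hω b := congrArg Subtype.val h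
      have hm : Units.map (sq hF).mapMatrix.toMonoidHom a.1 = Units.map (sq hF).mapMatrix.toMonoidHom b.1 :=
        (MulAut.conj (pU hF hω)).injective h'
      refine Subtype.ext (Units.ext (Matrix.map_injective ?_ (congrArg Units.val hm)))
      exact (sq hF).injective)

/-- the automorphism of J3 -/
noncomputable def phiJ : MulAut (J3 F ω) :=
  QuotientGroup.congr (Subgroup.center (threeJ3 F ω)) (Subgroup.center (threeJ3 F ω)) (phiT hF hω) (by
    ext z
    constructor
    · rintro ⟨w, hw, rfl⟩
      rw [Subgroup.mem_center_iff]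
      intro u
      have h' := congrArg (phiT hF hω) (Subgroup.mem_center_iff.1 hw ((phiT hF hω).symm u))
      simpa using h'
    · intro hz
      refine ⟨(phiT hF hω).symm z, Subgroup.mem_center_iff.2 fun u => ?_, (phiT hF hω).apply_symm_apply z⟩
      have h' := congrArg (phiT hF hω).symm (Subgroup.mem_center_iff.1 hz (phiT hF hω u))
      simpa using h')

theorem phiJ_proj (g : threeJ3 F ω) : phiJ hF hω (proj g) = proj (phiT hF hω g) := rfl

theorem phiJ_not_inner : phiJ hF hω ∉ Cfsg.Inn (J3 F ω) := by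
  rintro ⟨c, hc⟩
  obtain ⟨c, rfl⟩ := QuotientGroup.mk'_surjective (Subgroup.center (threeJ3 F ω)) c
  let f : threeJ3 F ω → threeJ3 F ω := fun h => c * h * c⁻¹ * (phiT hF hω h)⁻¹
  have hfc : ∀ h, f h ∈ Subgroup.center (threeJ3 F ω) := fun h => by
    rw [← proj_eq_one]
    have e := DFunLike.congr_fun hc (proj h)
    rw [phiJ_proj, MulAut.conj_apply] at e
    simp only [f, map_mul, map_inv]
    rw [mul_inv_eq_one]
    exact e
  have hfm : ∀ a b, f (a * b) = f a * f b := fun a b => by
    have e : f (a * b) = c * a * c⁻¹ * f b * (phiT hF hω a)⁻¹ := by simp only [f, map_mul]; group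
    rw [e, Subgroup.mem_center_iff.1 (hfc b) (c * a * c⁻¹), mul_assoc (f b),
      ← Subgroup.mem_center_iff.1 (hfc b)]
  let fh : threeJ3 F ω →* threeJ3 F ω := MonoidHom.mk' f hfm
  have hX : fh (Xg hF hω) = 1 := center_eq_one hF hω (hfc _)
    (show fh (Xg hF hω) ^ 19 = 1 by rw [← map_pow, Xg_pow, map_one]) (by norm_num)
  have hY : fh (Yh hF hω) = 1 := center_eq_one hF hω (hfc _)
    (show fh (Yh hF hω) ^ 2 = 1 by rw [← map_pow, pow_two, (Yh_spec hF hω).2.2.1, map_one]) (by norm_num)
  have htriv : ∀ h, fh h = 1 := fun h => by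
    induction gen_mem hF hω h using Submonoid.closure_induction with
    | mem z hz => rcases hz with rfl | rfl; exacts [hX, hY]
    | one => exact map_one _
    | mul a b _ _ ha hb => rw [map_mul, ha, hb, one_mul]
  obtain ⟨w, hw, hwc⟩ := zC_spec hF hω 1 (by norm_num)
  have h1 : f w = 1 := htriv w
  simp only [f, mul_inv_eq_one] at h1
  rw [Subgroup.mem_center_iff.1 hwc, mul_inv_cancel_right] at h1
  have h2 : mx (phiT hF hω w) = toM F ω (phiC (cd zC 1)) := phiGL_code hF hω hw
  rw [← h1, hw] at h2
  have h3 := toM_injective (two_zero hF) hω (by decide +kernel) (by decide +kernel) h2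
  have hf : beq (cd zC 1) (phiC (cd zC 1)) = false := by decide +kernel
  rw [← h3] at hf
  exact Bool.noConfusion (hf.symm.trans (by decide +kernel : beq (cd zC 1) (cd zC 1) = true))

theorem card_out : Nat.card (Cfsg.Out (J3 F ω)) = 2 := by
  refine le_antisymm (card_out_le hF hω) (Finite.one_lt_card_iff_nontrivial.2 ?_)
  refine ⟨QuotientGroup.mk (phiJ hF hω), 1, fun h => phiJ_not_inner hF hω ?_⟩
  exact (QuotientGroup.eq_one_iff _).1 h

end CfsgLib.J3Out
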